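import Groth.Prelude.Def_ArtFun
import Mathlib.RingTheory.Flat.EquationalCriterion
import Mathlib.RingTheory.Artinian.Ring
import Mathlib.RingTheory.HopkinsLevitzki
import Mathlib.RingTheory.Nakayama

/-! Endomorphisms of a flat deformation of a module with only scalar endomorphisms are scalars. -/

namespace Groth.Agent.DefModLib

universe u v w w'

theorem mem_colon_smul_top_of_smul_mem {R : Type*} [CommRing R] {F : Type*} [AddCommGroup F]
    [Module R F] [Module.Flat R F] (J K : Ideal R) (t : R) (hK : ∀ a, t * a ∈ J → a ∈ K) (x : F)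
    (hx : t • x ∈ J • (⊤ : Submodule R F)) : x ∈ K • (⊤ : Submodule R F) := by
  classical
  rw [← Submodule.span_univ, ← Set.range_id,
    Submodule.mem_ideal_smul_span_iff_exists_sum] at hx
  obtain ⟨a, ha, hsum⟩ := hx
  let f : Option a.support → R := fun o => o.elim t (fun i => -a i)
  let z : Option a.support → F := fun o => o.elim x (fun i => (i : F))
  have h0 : ∑ o, f o • z o = 0 := by
    rw [Fintype.sum_option]
    simp only [f, z, Option.elim, neg_smul, Finset.sum_neg_distrib]
    rw [← hsum, Finsupp.sum, Finset.sum_coe_sort a.support (fun i => a i • i)]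
    simp
  obtain ⟨l, c, y, hy, hfc⟩ := Module.Flat.isTrivialRelation_of_sum_smul_eq_zero h0
  rw [show x = z none from rfl, hy none]
  refine Submodule.sum_mem _ fun j _ => Submodule.smul_mem_smul (hK _ ?_) trivial
  have h := hfc j
  rw [Fintype.sum_option] at h
  have e : f none * c none j = - ∑ i, f (some i) * c (some i) j := eq_neg_of_add_eq_zero_left h
  change f none * c none j ∈ J
  rw [e]
  refine J.neg_mem (J.sum_mem fun i _ => J.mul_mem_right _ ?_)
  exact J.neg_mem (ha _)

section

variable {K : Type u} [Field K] {D : Type v} [Ring D] [Algebra K D]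
  {E : Type w} [AddCommGroup E] [Module K E] [Module D E] [IsScalarTower K D E]
  (R : ArtFun.Art K K)
  {F : Type w'} [AddCommGroup F] [Module R F] [Module D F] [SMulCommClass R D F] [Module.Flat R F]

omit [Algebra K D] [IsScalarTower K D E] [Module.Flat R F] in
theorem smul_mem_smul_top (J : Ideal R) (d : D) {x : F} (hx : x ∈ J • (⊤ : Submodule R F)) :
    d • x ∈ J • (⊤ : Submodule R F) := by
  refine Submodule.smul_induction_on hx (fun r hr y _ => ?_) fun a b ha hb => ?_
  · rw [← smul_comm r d y]; exact Submodule.smul_mem_smul hr trivial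
  · rw [smul_add]; exact Submodule.add_mem _ ha hb

theorem existsUnique_smul [Nontrivial E] (hE : ∀ ψ : E →ₗ[D] E, ∃ c : K, ∀ y : E, ψ y = c • y)
    (θ : F →ₗ[D] E) (hθ : ∀ (r : R) (x : F), θ (r • x) = R.res r • θ x)
    (hsurj : Function.Surjective θ)
    (hker : ∀ x : F, θ x = 0 ↔ x ∈ IsLocalRing.maximalIdeal R • (⊤ : Submodule R F))
    (φ : F →ₗ[R] F) (hφ : ∀ (d : D) (x : F), φ (d • x) = d • φ x) :
    ∃! r : R, ∀ x : F, φ x = r • x := by
  classical
  let T := (⊤ : Submodule R F)
  let P : Ideal R → Prop := fun I => ∃ r : R, ∀ x, φ x - r • x ∈ I • T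
  obtain ⟨I, hI, hmin⟩ := (wellFounded_lt (α := Ideal R)).has_min {I | P I}
    ⟨⊤, ⟨0, fun x => by simp [T]⟩⟩
  obtain ⟨r, hr⟩ := hI
  have hI0 : I = ⊥ := by
    by_contra hI0
    have hlt : IsLocalRing.maximalIdeal R * I < I := by
      refine lt_of_le_of_ne Ideal.mul_le_right fun h => hI0 ?_
      exact Submodule.eq_bot_of_le_smul_of_le_jacobson_bot (IsLocalRing.maximalIdeal R) I
        (IsNoetherian.noetherian I) (le_of_eq h.symm) (IsLocalRing.maximalIdeal_le_jacobson _)
    obtain ⟨J, ⟨hJ1, hJ2⟩, hmax⟩ := (wellFounded_gt (α := Submodule R R)).has_min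
      {J | IsLocalRing.maximalIdeal R * I ≤ J ∧ J < I} ⟨_, le_rfl, hlt⟩
    obtain ⟨t, ht, htJ⟩ := SetLike.exists_of_lt hJ2
    have hIJ : I = J ⊔ Ideal.span {t} := by
      refine (eq_of_le_of_not_lt (sup_le hJ2.le ((Ideal.span_singleton_le_iff_mem _).2 ht)) fun h => ?_).symm
      refine hmax _ ⟨hJ1.trans le_sup_left, h⟩ (lt_of_le_of_ne le_sup_left fun e => htJ ?_)
      rw [e]
      exact Ideal.mem_sup_right (Ideal.mem_span_singleton_self t)
    have htm : ∀ a, t * a ∈ J → a ∈ IsLocalRing.maximalIdeal R := by
      intro a ha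
      by_contra h
      rw [IsLocalRing.mem_maximalIdeal, mem_nonunits_iff, not_not] at h
      exact htJ ((Ideal.mul_unit_mem_iff_mem _ h).1 ha)
    have htmul : ∀ a ∈ IsLocalRing.maximalIdeal R, t * a ∈ J := fun a ha => by
      rw [mul_comm]; exact hJ1 (Ideal.mul_mem_mul ha ht)
    have hdec : ∀ x, ∃ y, φ x - r • x - t • y ∈ J • T := by
      intro x
      have := hr x
      rw [hIJ, Submodule.sup_smul, Submodule.mem_sup] at this
      obtain ⟨p, hp, q, hq, hpq⟩ := this
      rw [Submodule.ideal_span_singleton_smul, Submodule.mem_smul_pointwise_iff_exists] at hq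
      obtain ⟨y, -, rfl⟩ := hq
      exact ⟨y, by rw [← hpq]; simpa using hp⟩
    have hwd : ∀ x y, θ x = 0 → φ x - r • x - t • y ∈ J • T → θ y = 0 := by
      intro x y hx hy
      rw [hker] at hx ⊢
      refine mem_colon_smul_top_of_smul_mem J _ t htm y ?_
      have h' : φ x - r • x ∈ J • T := by
        refine Submodule.smul_induction_on hx (fun a ha z _ => ?_) fun a b ha hb => ?_
        · have hz := hr z
          have : a • (φ z - r • z) ∈ (IsLocalRing.maximalIdeal R * I) • T := by
            rw [Submodule.mul_smul]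
            exact Submodule.smul_mem_smul ha hz
          refine (Submodule.smul_mono_left hJ1) ?_
          rwa [map_smul, smul_comm r a z, ← smul_sub]
        · convert Submodule.add_mem _ ha hb using 1
          rw [map_add, smul_add]; abel
      simpa [T] using Submodule.sub_mem _ h' hy
    choose Y hY using hdec
    choose s hs using hsurj
    have key : ∀ x y, φ x - r • x - t • y ∈ J • T → θ y = θ (Y (s (θ x))) := by
      intro x y hy
      rw [← sub_eq_zero, ← map_sub]
      refine hwd (x - s (θ x)) _ (by simp [hs]) ?_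
      convert Submodule.sub_mem _ hy (hY (s (θ x))) using 1
      rw [map_sub, smul_sub, smul_sub]; abel
    let g : E →ₗ[D] E :=
      { toFun := fun e => θ (Y (s e))
        map_add' := fun a b => by
          rw [← map_add θ]
          have h := key (s a + s b) (Y (s a) + Y (s b)) (by
            convert Submodule.add_mem _ (hY (s a)) (hY (s b)) using 1
            rw [map_add, smul_add, smul_add]; abel)
          rw [map_add θ (s a), hs, hs] at h
          exact h.symm
        map_smul' := fun d a => by
          rw [RingHom.id_apply, ← map_smul θ]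
          have h := key (d • s a) (d • Y (s a)) (by
            convert smul_mem_smul_top R J d (hY (s a)) using 1
            rw [hφ, smul_sub, smul_sub, smul_comm r d (s a), smul_comm t d (Y (s a))])
          rw [map_smul θ d (s a), hs] at h
          exact h.symm }
    obtain ⟨c, hc⟩ := hE g
    refine hmin J ⟨r + t * algebraMap K R c, fun x => ?_⟩ hJ2
    have hθy : θ (Y x - algebraMap K R c • x) = 0 := by
      rw [map_sub, hθ, AlgHom.commutes, key x (Y x) (hY x), sub_eq_zero]
      exact hc (θ x)
    have h2 : t • (Y x - algebraMap K R c • x) ∈ J • T := by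
      refine Submodule.smul_induction_on ((hker _).1 hθy) (fun a ha z _ => ?_) fun a b ha hb => ?_
      · rw [smul_smul]; exact Submodule.smul_mem_smul (htmul a ha) trivial
      · rw [smul_add]; exact Submodule.add_mem _ ha hb
    convert Submodule.add_mem _ (hY x) h2 using 1
    rw [add_smul, smul_sub, mul_smul]; abel
  subst hI0
  have hr' : ∀ x, φ x = r • x := fun x => by simpa [sub_eq_zero] using hr x
  refine ⟨r, hr', fun r' h' => ?_⟩
  by_contra hne
  obtain ⟨e, he⟩ := exists_ne (0 : E)
  obtain ⟨x, rfl⟩ := hsurj e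
  apply he
  rw [hker]
  refine mem_colon_smul_top_of_smul_mem ⊥ _ (r' - r) (fun a ha => ?_) x ?_
  · by_contra h
    rw [IsLocalRing.mem_maximalIdeal, mem_nonunits_iff, not_not] at h
    rw [Ideal.mul_unit_mem_iff_mem _ h, Ideal.mem_bot, sub_eq_zero] at ha
    exact hne ha
  · rw [sub_smul, ← h', ← hr', sub_self]; exact Submodule.zero_mem _

theorem res_eq_one [Nontrivial E] (θ : F →ₗ[D] E) (hθ : ∀ (r : R) (x : F), θ (r • x) = R.res r • θ x)
    (hsurj : Function.Surjective θ) (r : R) (h : ∀ x, θ (r • x) = θ x) : R.res r = 1 := by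
  obtain ⟨e, he⟩ := exists_ne (0 : E)
  obtain ⟨x, rfl⟩ := hsurj e
  have h1 := h x
  rw [hθ] at h1
  have h2 : (R.res r - 1) • θ x = 0 := by rw [sub_smul, h1, one_smul, sub_self]
  rcases smul_eq_zero.1 h2 with h3 | h3
  · exact sub_eq_zero.1 h3
  · exact absurd h3 he

end

end Groth.Agent.DefModLib
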